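/-
Groups in which subgroups of equal order are conjugate, part A: a solvable group that is transitive on the subgroups
of each order of an elementary abelian normal subgroup.
-/
import Cfsg.Agent.Perm.Huppert3
import Cfsg.Agent.Known.GLLang
import Cfsg.Agent.Grp.Hall
import Cfsg.Agent.Grp.Primitive
import Cfsg.Agent.Grp.Frob2
import Cfsg.Agent.Odd.RelBasic
import Cfsg.Agent.Fgs.EqConj
import Cfsg.Agent.Loc.PConstr
import Cfsg.Prelude.Def_Perm
import Cfsg.Prelude.Def_Transfer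

set_option autoImplicit false

open scoped Pointwise
open Cfsg Subgroup

namespace CL.EqOrd

variable {X : Type*} [Group X] {V : Subgroup X} {K : Type*} [Field K] {e : K → X} {p n : ℕ}

/-- `g` acts as `x ↦ a σ(x)`. -/
def Sm (e : K → X) (g : X) (a : Kˣ) (σ : K ≃+* K) : Prop := ∀ x, g * e x * g⁻¹ = e (a * σ x)

/-- Field coordinates on `V` in which the group acts semilinearly. -/
structure Mod (V : Subgroup X) (e : K → X) : Prop where
  inj : Function.Injective e
  mem : ∀ g, g ∈ V ↔ ∃ x, e x = g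
  add : ∀ x y, e (x + y) = e x * e y
  semi : ∀ g : X, ∃ a σ, Sm e g a σ

/-- Subgroups of `V` of equal order are conjugate. -/
def Tr (V : Subgroup X) : Prop :=
  ∀ A B : Subgroup X, A ≤ V → B ≤ V → Nat.card A = Nat.card B → ∃ g : X, MulAut.conj g • A = B

theorem Tr.exists_pow [Fact p.Prime] (hT : Tr V) (hV : ∀ v ∈ V, v ^ p = 1) {v w : X} (hv : v ∈ V) (hw : w ∈ V)
    (h1 : v ≠ 1) (h2 : w ≠ 1) : ∃ (g : X) (k : ℕ), g * v ^ k * g⁻¹ = w := by
  obtain ⟨g, hg⟩ := hT (zpowers v) (zpowers w) (zpowers_le.2 hv) (zpowers_le.2 hw) (by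
    rw [Nat.card_zpowers, Nat.card_zpowers, orderOf_eq_prime (hV v hv) h1, orderOf_eq_prime (hV w hw) h2])
  obtain ⟨u, hu, e⟩ : w ∈ MulAut.conj g • zpowers v := hg ▸ mem_zpowers w
  have : IsOfFinOrder v := isOfFinOrder_iff_pow_eq_one.2 ⟨p, (Fact.out : p.Prime).pos, hV v hv⟩
  obtain ⟨k, rfl⟩ := this.mem_powers_iff_mem_zpowers.2 hu
  exact ⟨g, k, e⟩

open scoped IsMulCommutative in
theorem exists_mod [Finite X] [Group.IsSolvable X] [hp : Fact p.Prime] [V.Normal] (hV : IsElementaryAbelian p V)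
    (hc : Nat.card V = p ^ n) (hn : 3 ≤ n) (hT : Tr V) :
    (∃ e : GaloisField p n → X, Mod V e) ∨ (n = 4 ∧ p = 3) := by
  have := hV.1
  have : Nontrivial V := Finite.one_lt_card_iff_nontrivial.1 (hc ▸ Nat.one_lt_pow (by omega) hp.out.one_lt)
  let _ : Module (ZMod p) (Additive V) := AddCommGroup.zmodModule fun v => Subtype.ext (hV.2 _ v.toMul.2)
  let ρ₀ : X →* AddMonoid.End (Additive V) :=
    { toFun := fun h => MonoidHom.toAdditive ((MulAut.conjNormal h : MulAut V) : V →* V)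
      map_one' := by rw [map_one]; rfl
      map_mul' := fun g h => by rw [map_mul]; rfl }
  have hρ : ∀ (h : X) (v : Additive V), ((ρ₀ h v).toMul : X) = h * v.toMul * h⁻¹ := fun h v => rfl
  let ρ := ρ₀.noncommCoprod (DistribMulAction.toAddMonoidEnd (ZMod p)ˣ (Additive V)) fun g c =>
    AddMonoidHom.ext fun v => ZMod.map_smul (ρ₀ g) (c : ZMod p) v
  let ρ' := QuotientGroup.lift ρ.ker ρ le_rfl
  have hinj : Function.Injective ρ' := (injective_iff_map_eq_one _).2 fun g => by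
    obtain ⟨g, rfl⟩ := QuotientGroup.mk_surjective g
    exact (QuotientGroup.eq_one_iff (N := ρ.ker) g).2
  have htr : ∀ v w : Additive V, v ≠ 0 → w ≠ 0 → ∃ g, ρ' g v = w := fun v w hv hw => by
    obtain ⟨g, k, e⟩ := hT.exists_pow hV.2 v.toMul.2 w.toMul.2 (fun e => hv (Subtype.ext e))
      fun e => hw (Subtype.ext e)
    have h1 : ρ₀ g ((k : ZMod p) • v) = w := by
      rw [Nat.cast_smul_eq_nsmul]
      exact Subtype.ext e
    have h2 : (k : ZMod p) ≠ 0 := fun e => hw (by rw [← h1, e, zero_smul, map_zero])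
    exact ⟨QuotientGroup.mk (g, Units.mk0 _ h2), h1⟩
  rcases CL.Perm.huppert_struct ρ' hinj htr hc with
    ⟨A, hA, hc', hirr⟩ | ⟨h, -⟩ | ⟨h1, h2, -⟩
  · obtain ⟨F, _, _, ε, h⟩ := CL.Perm.exists_gammaL_of_irreducible ρ' A hirr
    let _ := Fintype.ofFinite (GaloisField p n)
    let φ : F ≃+* GaloisField p n := FiniteField.ringEquivOfCardEq (by
      rw [← Nat.card_eq_fintype_card, ← Nat.card_eq_fintype_card, GaloisField.card p n (by omega), ← hc]
      exact (Nat.card_congr ε.toEquiv).symm)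
    refine Or.inl ⟨fun x => ((ε.symm (φ.symm x)).toMul : X), fun x y h => ?_, fun g => ⟨fun hg =>
      ⟨φ (ε (Additive.ofMul ⟨g, hg⟩)), by simp⟩, ?_⟩, fun x y => by simp, fun g => ?_⟩
    · exact φ.symm.injective (ε.symm.injective (Additive.toMul.injective (Subtype.ext h)))
    · rintro ⟨x, rfl⟩
      exact (ε.symm _).toMul.2
    obtain ⟨a, σ, ha⟩ := h (QuotientGroup.mk (g, 1))
    have h1 : ∀ v, ε (ρ₀ g v) = a * σ (ε v) := fun v => by
      rw [← ha]
      exact congrArg ε (congrArg (ρ₀ g) (one_smul (ZMod p)ˣ v).symm)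
    have h2 : φ a ≠ 0 := fun e => by
      obtain ⟨v, hv⟩ := exists_ne (0 : Additive V)
      have h3 := h1 v
      rw [(map_eq_zero φ).1 e, zero_mul, ε.map_eq_zero_iff] at h3
      have h4 : (ρ₀ g⁻¹ * ρ₀ g) v = 0 := (congrArg (ρ₀ g⁻¹) h3).trans (map_zero _)
      rw [← map_mul, inv_mul_cancel, map_one] at h4
      exact hv h4
    refine ⟨Units.mk0 _ h2, φ.symm.trans (σ.trans φ), fun x => ?_⟩
    rw [← hρ]
    congr 2
    rw [AddEquiv.eq_symm_apply, h1]
    simp
  · omega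
  · exact Or.inr ⟨h1, h2⟩

namespace Mod

variable (h : Mod V e)
include h

theorem zero : e 0 = 1 := by simpa using h.add 0 0

theorem mem' (x : K) : e x ∈ V := (h.mem _).2 ⟨x, rfl⟩

theorem card : Nat.card V = Nat.card K :=
  (Nat.card_congr (Equiv.ofBijective (fun x => (⟨e x, h.mem' x⟩ : V)) ⟨fun _ _ e => h.inj (congrArg Subtype.val e),
    fun v => ((h.mem v).1 v.2).imp fun _ e => Subtype.ext e⟩)).symm

omit h in
theorem sm_pow {g : X} {a : Kˣ} {σ : K ≃+* K} (hg : Sm e g a σ) (k : ℕ) : ∃ b, Sm e (g ^ k) b (σ ^ k) := by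
  induction k with
  | zero => exact ⟨1, fun x => by simp⟩
  | succ k ih =>
    obtain ⟨b, hb⟩ := ih
    refine ⟨a * Units.map (σ : K →* K) b, fun x => ?_⟩
    rw [pow_succ', pow_succ', mul_inv_rev, mul_assoc g, mul_assoc g, ← mul_assoc _ _ g⁻¹, hb, ← mul_assoc, hg]
    simp [mul_assoc]

theorem orderOf_dvd {g : X} {a : Kˣ} {σ : K ≃+* K} (hg : Sm e g a σ) : orderOf σ ∣ Nat.card X := by
  obtain ⟨b, hb⟩ := sm_pow hg (Nat.card X)
  have h1 : ∀ x, x = b * (σ ^ Nat.card X) x := fun x => h.inj (by rw [← hb, pow_card_eq_one']; simp)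
  have h2 : (b : K) = 1 := by simpa using (h1 1).symm
  exact orderOf_dvd_of_pow_eq_one (RingEquiv.ext fun x => by simpa [h2] using (h1 x).symm)

variable [Fact p.Prime] [Algebra (ZMod p) K]

/-- the plane spanned by `1` and `y` -/
def pl (p : ℕ) [Fact p.Prime] [Algebra (ZMod p) K] (y : K) : Multiplicative (ZMod p × ZMod p) →* X :=
  MonoidHom.mk' (fun v => e (algebraMap _ K v.toAdd.1 + algebraMap _ K v.toAdd.2 * y)) fun v w => by
    rw [← h.add]
    congr 1
    simp only [toAdd_mul, Prod.fst_add, Prod.snd_add, map_add]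
    ring

theorem card_pl {y : K} (hy : y ∉ Set.range (algebraMap (ZMod p) K)) : Nat.card (h.pl p y).range = p ^ 2 := by
  rw [← Nat.card_congr (MonoidHom.ofInjective ((injective_iff_map_eq_one _).2 fun v hv => ?_)).toEquiv]
  · rw [Nat.card_congr Multiplicative.toAdd, Nat.card_prod, Nat.card_zmod, pow_two]
  have h1 := h.inj (hv.trans h.zero.symm)
  have h2 : v.toAdd.2 = 0 := by_contra fun h2 => hy ⟨-v.toAdd.1 / v.toAdd.2, by
    rw [map_div₀, map_neg, div_eq_iff ((map_ne_zero _).2 h2)]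
    linear_combination -h1⟩
  rw [h2, map_zero, zero_mul, add_zero, map_eq_zero] at h1
  exact Prod.ext h1 h2

theorem ratio (hT : Tr V) {x y : K} (hy : y ∉ Set.range (algebraMap (ZMod p) K))
    (hx : x ∉ Set.range (algebraMap (ZMod p) K)) : ∃ g a σ, Sm e g a σ ∧ ∃ i j k l : ZMod p,
      x = σ ((algebraMap _ K i + algebraMap _ K j * y) / (algebraMap _ K k + algebraMap _ K l * y)) := by
  have hle : ∀ y, (h.pl p y).range ≤ V := by
    rintro y _ ⟨v, rfl⟩
    exact h.mem' _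
  obtain ⟨g, hg⟩ := hT _ _ (hle y) (hle x) ((h.card_pl hy).trans (h.card_pl hx).symm)
  obtain ⟨a, σ, ha⟩ := h.semi g
  have key : ∀ v : ZMod p × ZMod p, ∃ i j : ZMod p, algebraMap _ K v.1 + algebraMap _ K v.2 * x =
      a * σ (algebraMap _ K i + algebraMap _ K j * y) := fun v => by
    obtain ⟨_, ⟨w, rfl⟩, e⟩ : h.pl p x (Multiplicative.ofAdd v) ∈ MulAut.conj g • (h.pl p y).range := hg ▸ ⟨_, rfl⟩
    exact ⟨_, _, h.inj (e.symm.trans (ha _))⟩
  obtain ⟨i, j, h1⟩ := key (0, 1)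
  obtain ⟨k, l, h2⟩ := key (1, 0)
  simp only [map_zero, map_one, zero_add, one_mul, zero_mul, add_zero] at h1 h2
  refine ⟨g, a, σ, ha, i, j, k, l, ?_⟩
  rw [map_div₀, ← mul_div_mul_left _ _ a.ne_zero, ← h1, ← h2, div_one]

theorem odd [Fintype K] (hT : Tr V) (hK : Fintype.card K = p ^ n) (hn : 3 ≤ n) : Odd n := by
  have hp : p.Prime := Fact.out
  have h2 := hp.two_le
  have : CharP K p := charP_of_card_eq_prime_pow hK
  rw [← Nat.not_even_iff_odd]
  rintro ⟨m, rfl⟩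
  obtain ⟨g, hg⟩ := IsCyclic.exists_ofOrder_eq_natCard (α := Kˣ)
  rw [Nat.card_units, Nat.card_eq_fintype_card, hK] at hg
  have hd : p ^ 2 - 1 ∣ orderOf g := by
    rw [hg, ← two_mul, pow_mul]
    simpa using Nat.sub_dvd_pow_sub_pow (p ^ 2) 1 m
  have hy := orderOf_pow_orderOf_div (orderOf_pos g).ne' hd
  generalize g ^ (orderOf g / (p ^ 2 - 1)) = y at hy
  have h4 : p < p ^ 2 := by nlinarith
  let F : Subfield K := (iterateFrobenius K p 2).eqLocusField (RingHom.id K)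
  have hF : ∀ x, x ∈ F ↔ x ^ p ^ 2 = x := fun x => Iff.rfl
  have hp' : ∀ c : ZMod p, algebraMap _ K c ^ p = algebraMap _ K c := fun c => by rw [← map_pow, ZMod.pow_card]
  have h5 : ∀ c : ZMod p, algebraMap _ K c ∈ F := fun c => by rw [hF, pow_two, pow_mul, hp', hp']
  have h6 : ∀ (u : Kˣ) (k : ℕ), 0 < k → ((u : K) ^ k = u ↔ orderOf u ∣ k - 1) := fun u k hk => by
    obtain ⟨k, rfl⟩ : ∃ j, k = j + 1 := ⟨k - 1, by omega⟩
    rw [Nat.add_sub_cancel, orderOf_dvd_iff_pow_eq_one, pow_succ, mul_eq_right₀ u.ne_zero, ← Units.val_pow_eq_pow_val,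
      Units.val_eq_one]
  have h7 : (g : K) ∈ F := by
    by_cases hx : (g : K) ∈ Set.range (algebraMap (ZMod p) K)
    · obtain ⟨c, hc⟩ := hx
      exact hc ▸ h5 c
    obtain ⟨-, -, σ, -, i, j, k, l, e⟩ := h.ratio hT (y := y) (by
      rintro ⟨c, hc⟩
      have := Nat.le_of_dvd (by omega) ((h6 y p (by omega)).1 (hc ▸ hp' c))
      omega) hx
    have h8 : (y : K) ∈ F := (hF _).2 ((h6 y _ (by omega)).2 hy.dvd)
    rw [hF, e, ← map_pow, (hF _).1 (div_mem (add_mem (h5 i) (mul_mem (h5 j) h8)) (add_mem (h5 k) (mul_mem (h5 l) h8)))]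
  have h9 := Nat.le_of_dvd (by omega) ((h6 g _ (by omega)).1 ((hF _).1 h7))
  have := Nat.pow_lt_pow_right hp.one_lt (show 2 < m + m by omega)
  omega

theorem bound [Finite K] (hT : Tr V) (hK : p < Nat.card K) {T : Set (K ≃+* K)} (h1 : 1 ∈ T)
    (h2 : ∀ g a σ, Sm e g a σ → σ ∈ T) : Nat.card K ≤ Nat.card T * ((p + 1) * p ^ 2) := by
  have hp : p.Prime := Fact.out
  have : NeZero p := ⟨hp.ne_zero⟩
  have : Finite (K ≃+* K) := Finite.of_injective _ (DFunLike.coe_injective (F := K ≃+* K))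
  obtain ⟨y, hy⟩ : ∃ y, y ∉ Set.range (algebraMap (ZMod p) K) := by
    by_contra! hn
    have := Nat.card_le_card_of_surjective _ (show Function.Surjective (algebraMap (ZMod p) K) from hn)
    rw [Nat.card_zmod] at this
    omega
  have := Nat.card_le_card_of_surjective (fun z : T × Option (ZMod p) × ZMod p × ZMod p =>
    z.1.1 ((algebraMap _ K z.2.2.1 + algebraMap _ K z.2.2.2 * y) / z.2.1.elim 1 fun c => algebraMap _ K c + y))
    fun x => ?_
  · simpa [Nat.card_prod, pow_two] using this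
  by_cases hx : x ∈ Set.range (algebraMap (ZMod p) K)
  · obtain ⟨c, rfl⟩ := hx
    exact ⟨(⟨1, h1⟩, none, c, 0), by simp⟩
  obtain ⟨g, a, σ, ha, i, j, k, l, rfl⟩ := h.ratio hT hy hx
  by_cases hl : l = 0
  · refine ⟨(⟨σ, h2 g a σ ha⟩, none, i / k, j / k), congrArg σ ?_⟩
    simp only [hl, map_div₀, map_zero, Option.elim]
    ring
  · refine ⟨(⟨σ, h2 g a σ ha⟩, some (k / l), i / l, j / l), congrArg σ ?_⟩
    have h3 : algebraMap (ZMod p) K l ≠ 0 := (map_ne_zero _).2 hl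
    simp only [map_div₀, Option.elim]
    rw [← mul_div_mul_left _ _ h3]
    congr 1 <;> field_simp

theorem cases [Fintype K] (hT : Tr V) (hK : Fintype.card K = p ^ n) (hn : 3 ≤ n) :
    n = 3 ∨ (n = 5 ∧ p = 2 ∧ ∃ g a σ, Sm e g a σ ∧ σ ≠ 1) := by
  have hp : p.Prime := Fact.out
  have h2 := hp.two_le
  have hK' := Nat.card_eq_fintype_card.trans hK
  have h3 : p < Nat.card K := hK' ▸ (pow_one p).ge.trans_lt (Nat.pow_lt_pow_right hp.one_lt (by omega))
  have h4 := h.bound hT h3 (T := Set.univ) trivial fun _ _ _ _ => trivial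
  obtain ⟨m, rfl⟩ : ∃ m, n = m + 3 := ⟨n - 3, by omega⟩
  rw [hK', Nat.card_univ, CL.GLn.card_ringAut hK, show m + 3 = m + 1 + 2 from rfl, pow_add, ← mul_assoc] at h4
  have h5 := Nat.le_of_mul_le_mul_right h4 (by positivity)
  have h6 : m < 4 := by
    by_contra! h6
    have : ∀ k, 2 * (k + 4 + 1 + 2) ≤ 2 ^ (k + 4) := fun k => by
      induction k with
      | zero => norm_num
      | succ k ih => rw [add_right_comm, pow_succ]; omega
    obtain ⟨k, rfl⟩ : ∃ k, m = k + 4 := ⟨m - 4, by omega⟩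
    have h7 := (this k).trans (Nat.pow_le_pow_left h2 _)
    rw [pow_succ] at h5
    nlinarith
  obtain ⟨k, hk⟩ := h.odd hT hK hn
  refine or_iff_not_imp_left.2 fun h7 => ?_
  obtain rfl : m = 2 := by omega
  obtain rfl : p = 2 := by
    by_contra h8
    have h9 : 3 ≤ p := by omega
    have : 9 * p ≤ p ^ (2 + 1) := by rw [pow_succ]; exact Nat.mul_le_mul_right p (Nat.pow_le_pow_left h9 2)
    omega
  refine ⟨rfl, rfl, by_contra fun hn => ?_⟩
  have h8 := h.bound hT h3 (T := {1}) rfl fun g a σ h => by_contra fun h1 => hn ⟨g, a, σ, h, h1⟩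
  rw [hK'] at h8
  simp at h8

end Mod

theorem Mod.exists_emb [Finite X] [V.Normal] (h : Mod V e) (hi : (Nat.card V).Coprime V.index)
    (hC : centralizer (V : Set X) ≤ V) : ∃ φ : X →* Equiv.Perm K, Function.Injective φ ∧
      ∀ g, ∃ l a σ b, Sm e l a σ ∧ ∀ x, φ g x = a * σ x + b := by
  obtain ⟨L, hL⟩ := exists_right_complement'_of_coprime hi
  have hd : ∀ v ∈ V, v ∈ L → v = 1 := fun v h1 h2 => mem_bot.1 (hL.disjoint.le_bot ⟨h1, h2⟩)
  have hdec : ∀ g : X, ∃ b, ∃ l ∈ L, g = e b * l := fun g => by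
    obtain ⟨⟨v, l⟩, e1⟩ := hL.2 g
    obtain ⟨b, hb⟩ := (h.mem v).1 v.2
    exact ⟨b, l, l.2, by rw [hb]; exact e1.symm⟩
  let ε : K ≃ X ⧸ L := Equiv.ofBijective (fun x => (e x : X ⧸ L)) ⟨fun x y e1 => h.inj (inv_mul_eq_one.1
    (hd _ (mul_mem (inv_mem (h.mem' x)) (h.mem' y)) (QuotientGroup.eq.1 e1))), fun c => by
      obtain ⟨g, rfl⟩ := QuotientGroup.mk_surjective c
      obtain ⟨b, l, hl, rfl⟩ := hdec g
      exact ⟨b, (QuotientGroup.mk_mul_of_mem _ hl).symm⟩⟩
  let φ := ε.symm.permCongrHom.toMonoidHom.comp (MulAction.toPermHom X (X ⧸ L))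
  have key : ∀ b, ∀ l ∈ L, ∀ a σ, Sm e l a σ → ∀ x, φ (e b * l) x = a * σ x + b := fun b l hl a σ ha x => by
    refine ε.symm_apply_eq.2 ?_
    change ((e b * l * e x : X) : X ⧸ L) = (e (a * σ x + b) : X)
    rw [add_comm, h.add, ← ha, ← QuotientGroup.mk_mul_of_mem _ (inv_mem hl)]
    simp only [mul_assoc]
  refine ⟨φ, (injective_iff_map_eq_one _).2 fun g hg => ?_, fun g => ?_⟩ <;> obtain ⟨b, l, hl, rfl⟩ := hdec g <;>
    obtain ⟨a, σ, ha⟩ := h.semi l
  · have h1 : ∀ x, x = a * σ x + b := fun x => by rw [← key b l hl a σ ha, hg]; rfl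
    have h2 : b = 0 := by simpa using (h1 0).symm
    rw [h2, h.zero, one_mul]
    refine hd l (hC fun v hv => ?_) hl
    obtain ⟨x, rfl⟩ := (h.mem v).1 hv
    rw [eq_comm, ← mul_inv_eq_iff_eq_mul, ha]
    exact congrArg e (by simpa [h2] using (h1 x).symm)
  · exact ⟨l, a, σ, b, ha, key b l hl a σ ha⟩

theorem card_affine_le [Finite K] : Nat.card (affineGroup K) ≤ (Nat.card K - 1) * Nat.card K := by
  rw [← Nat.card_units, ← Nat.card_prod]
  choose a b h using fun s : affineGroup K => s.2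
  exact Nat.card_le_card_of_injective (fun s => (a s, b s)) fun s t e => Subtype.ext (Equiv.ext fun x => by
    rw [h, h, show a s = a t from congrArg Prod.fst e, show b s = b t from congrArg Prod.snd e])

theorem card_semi_le [Finite K] :
    Nat.card (semiaffineGroup K) ≤ (Nat.card K - 1) * Nat.card K * Nat.card (K ≃+* K) := by
  have : Finite (K ≃+* K) := Finite.of_injective _ (DFunLike.coe_injective (F := K ≃+* K))
  rw [← Nat.card_units, ← Nat.card_prod, ← Nat.card_prod]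
  choose a b σ h using fun s : semiaffineGroup K => s.2
  refine Nat.card_le_card_of_injective (fun s => ((a s, b s), σ s)) fun s t e => Subtype.ext (Equiv.ext fun x => ?_)
  simp only [Prod.mk.injEq] at e
  rw [h, h, e.1.1, e.1.2, e.2]

theorem nonempty_equiv {Y : Type*} [Group Y] [Finite Y] [Finite X] {φ : X →* Y} (hφ : Function.Injective φ)
    {H : Subgroup Y} (h : ∀ g, φ g ∈ H) {m : ℕ} (h1 : m ∣ Nat.card X) (h2 : Nat.card H ≤ m) : Nonempty (X ≃* H) :=
  have h3 : Function.Injective (φ.codRestrict H h) := fun _ _ e => hφ (congrArg Subtype.val e)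
  ⟨MulEquiv.ofBijective _ (h3.bijective_of_nat_card_le (h2.trans (Nat.le_of_dvd Nat.card_pos h1)))⟩

theorem Tr.sub_one_dvd [Finite X] [V.Normal] (hT : Tr V) (hV : ∀ v ∈ V, v ^ 2 = 1) (h1 : V ≠ ⊥) :
    Nat.card V - 1 ∣ Nat.card X := by
  obtain ⟨v, hv, h2⟩ := (bot_or_exists_ne_one V).resolve_left h1
  have h3 : MulAction.orbit (ConjAct X) v = (V : Set X) \ {1} := by
    ext w
    refine ⟨?_, fun hw => ?_⟩
    · rintro ⟨g, rfl⟩
      exact ⟨(inferInstance : V.Normal).conj_mem v hv g, fun e => h2 (by simpa [ConjAct.smul_def] using e)⟩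
    obtain ⟨g, k, e⟩ := hT.exists_pow hV hv hw.1 h2 hw.2
    refine ⟨g, ?_⟩
    rcases Nat.even_or_odd' k with ⟨j, rfl | rfl⟩
    · exact absurd (by simpa [pow_mul, hV v hv] using e.symm) hw.2
    · rw [pow_succ, pow_mul, hV v hv, one_pow, one_mul] at e
      exact e
  have h4 := (MulAction.stabilizer (ConjAct X) v).index_dvd_card
  rwa [MulAction.index_stabilizer, h3, Set.ncard_sdiff_singleton_of_mem (one_mem V)] at h4

open Classical in
theorem card_pairs [Fintype X] [hp : Fact p.Prime] {W : Subgroup X} (hW : ∀ v ∈ W, v ^ p = 1) :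
    (Finset.univ.filter fun z : X × X => z.1 ∈ W ∧ z.1 ≠ 1 ∧ z.2 ∈ W ∧ z.2 ∉ zpowers z.1).card =
      (Nat.card W - 1) * (Nat.card W - p) := by
  have h0 : ∀ A : Subgroup X, A ≤ W → (Finset.univ.filter fun v => v ∈ W ∧ v ∉ A).card = Nat.card W - Nat.card A :=
    fun A hA => by
      rw [← Set.ncard_coe_finset, ← SetLike.coe_sort_coe, ← SetLike.coe_sort_coe, Nat.card_coe_set_eq,
        Nat.card_coe_set_eq, ← Set.ncard_sdiff hA]
      congr 1
      ext
      simp
  rw [Finset.card_eq_sum_card_fiberwise (f := Prod.fst) (t := Finset.univ.filter fun v => v ∈ W ∧ v ∉ (⊥ : Subgroup X))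
    fun z hz => by simp at hz ⊢; exact ⟨hz.1, hz.2.1⟩,
    Finset.sum_const_nat (m := Nat.card W - p), h0 ⊥ bot_le, card_bot]
  intro u hu
  simp only [Finset.mem_filter, Finset.mem_univ, true_and, mem_bot] at hu
  rw [← orderOf_eq_prime (hW u hu.1) hu.2, ← Nat.card_zpowers, ← h0 _ (zpowers_le.2 hu.1)]
  refine Finset.card_bij (fun z _ => z.2) (fun z hz => ?_) (fun z hz w hw e => ?_) fun v hv => ⟨(u, v), ?_, rfl⟩ <;>
    simp only [Finset.mem_filter, Finset.mem_univ, true_and] at *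
  · exact hz.2 ▸ hz.1.2.2
  · exact Prod.ext (hz.2.trans hw.2.symm) e
  · exact ⟨⟨hu.1, hu.2, hv⟩, trivial⟩

theorem Tr.dvd_of_81 [Finite X] [V.Normal] (hT : Tr V) (hV : IsElementaryAbelian 3 V) (hc : Nat.card V = 3 ^ 4) :
    130 ∣ Nat.card X := by
  classical
  have := Fintype.ofFinite X
  have := Fintype.ofFinite (Subgroup X)
  have h9 : ∀ u ∈ V, u ≠ 1 → ∀ v ∈ V, v ∉ zpowers u → Nat.card (zpowers u ⊔ zpowers v : Subgroup X) = 9 := by
    intro u hu h1 v hv h2
    have h3 : orderOf v = 3 := orderOf_eq_prime (hV.2 v hv) fun e => h2 (e ▸ one_mem _)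
    have := hV.1
    have h4 := CL.Grp.card_sup_mul_card_inf (H := zpowers u) (K := zpowers v) ((zpowers_le.2 (mem_centralizer_iff.2
      fun w hw => setLike_mul_comm (s := V) (zpowers_le.2 hv hw) hu)).trans (centralizer_le_normalizer _))
    have h5 := card_dvd_of_le (inf_le_right : zpowers u ⊓ zpowers v ≤ _)
    rw [Nat.card_zpowers, h3] at h5
    rcases (Nat.dvd_prime Nat.prime_three).1 h5 with e | e
    · rwa [e, mul_one, Nat.card_zpowers, Nat.card_zpowers, h3, orderOf_eq_prime (hV.2 u hu) h1] at h4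
    · exact absurd ((eq_of_le_of_card_ge inf_le_right (by rw [e, Nat.card_zpowers, h3])).ge (mem_zpowers v)).1 h2
  have h1 := card_pairs hV.2
  rw [Finset.card_eq_sum_card_fiberwise (f := fun z => zpowers z.1 ⊔ zpowers z.2)
    (t := Finset.univ.filter fun W : Subgroup X => W ≤ V ∧ Nat.card W = 9) fun z hz => by
      simp only [Finset.coe_filter, Finset.mem_univ, true_and, Set.mem_ofPred_eq] at hz ⊢
      exact ⟨sup_le (zpowers_le.2 hz.1) (zpowers_le.2 hz.2.2.1), h9 _ hz.1 hz.2.1 _ hz.2.2.1 hz.2.2.2⟩,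
    Finset.sum_const_nat (m := (9 - 1) * (9 - 3)) fun W hW => ?_, hc] at h1
  · obtain ⟨W, hW⟩ := Sylow.exists_subgroup_card_pow_prime_of_le_card (G := V) (n := 2) Nat.prime_three
      (IsPGroup.of_card hc) (by rw [hc]; norm_num)
    let _ : MulAction X (Subgroup X) := MulAction.compHom _ (MulAut.conj : X →* MulAut X)
    have h2 := (MulAction.stabilizer X (W.map V.subtype)).index_dvd_card
    have h3 : Nat.card (W.map V.subtype) = 9 := (card_map_of_injective V.subtype_injective).trans hW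
    rw [MulAction.index_stabilizer, show MulAction.orbit X (W.map V.subtype) =
      (Finset.univ.filter fun W : Subgroup X => W ≤ V ∧ Nat.card W = 9) from Set.ext fun A => ?_,
      Set.ncard_coe_finset] at h2
    · convert h2
      omega
    simp only [Finset.coe_filter, Finset.mem_univ, true_and, Set.mem_ofPred_eq]
    refine ⟨?_, fun hA => hT _ _ (map_subtype_le W) hA.1 (h3.trans hA.2.symm)⟩
    rintro ⟨g, rfl⟩
    refine ⟨?_, (CL.Grp.hall_card_conj g _).trans h3⟩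
    rintro _ ⟨x, hx, rfl⟩
    exact (inferInstance : V.Normal).conj_mem x (map_subtype_le W hx) g
  simp only [Finset.mem_filter, Finset.mem_univ, true_and] at hW
  rw [← hW.2, ← card_pairs fun v hv => hV.2 v (hW.1 hv), Finset.filter_filter]
  refine congrArg _ (Finset.filter_congr fun z _ => ⟨fun hz => ⟨hz.2 ▸ mem_sup_left (mem_zpowers _), hz.1.2.1,
    hz.2 ▸ mem_sup_right (mem_zpowers _), hz.1.2.2.2⟩, fun hz => ⟨⟨hW.1 hz.1, hz.2.1, hW.1 hz.2.2.1, hz.2.2.2⟩,
      eq_of_le_of_card_ge (sup_le (zpowers_le.2 hz.1) (zpowers_le.2 hz.2.2.1)) ?_⟩⟩)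
  rw [hW.2, h9 _ (hW.1 hz.1) hz.2.1 _ (hW.1 hz.2.2.1) hz.2.2.2]

theorem not_81 [Finite X] [Group.IsSolvable X] [V.Normal] (hc : Nat.card V = 3 ^ 4)
    (hC : centralizer (V : Set X) ≤ V) (h : 130 ∣ Nat.card X) : False := by
  have : Fact (Nat.Prime 5) := ⟨by norm_num⟩
  have : Fact (Nat.Prime 13) := ⟨by norm_num⟩
  have fix : ∀ (r : ℕ) [Fact r.Prime] (A : Subgroup X), r ≠ 3 → IsPGroup r A → A ≠ ⊥ → ∃ i < 4,
      Nat.card (V ⊓ centralizer (A : Set X) : Subgroup X) = 3 ^ i ∧ 3 ^ 4 ≡ 3 ^ i [MOD r] := fun r hr A h3 hA h1 => by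
    obtain ⟨i, hi, e⟩ := (Nat.dvd_prime_pow Nat.prime_three).1
      (hc ▸ card_dvd_of_le (inf_le_left : V ⊓ centralizer (A : Set X) ≤ V))
    refine ⟨i, lt_of_le_of_ne hi ?_, e, ?_⟩
    · rintro rfl
      exact h1 (disjoint_self.1 ((IsPGroup.disjoint_of_ne r 3 h3 A V hA (IsPGroup.of_card hc)).mono_right
        ((le_centralizer_iff.1 (inf_eq_left.1 (eq_of_le_of_card_ge inf_le_left (by rw [e, hc])))).trans hC)))
    · rw [← hc, ← e]
      exact CL.Grp.card_modEq_card_inf_centralizer hA le_normalizer_of_normal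
  have f5 : ∀ A : Subgroup X, IsPGroup 5 A → A ≠ ⊥ → V ⊓ centralizer (A : Set X) = ⊥ := fun A hA h1 => by
    obtain ⟨i, hi, e, e1⟩ := fix 5 A (by norm_num) hA h1
    interval_cases i
    · exact card_eq_one.1 e
    all_goals exact absurd e1 (by decide)
  have key : ∀ A B : Subgroup X, IsPGroup 13 A → A ≠ ⊥ → IsPGroup 5 B → B ≠ ⊥ → B ≤ normalizer (A : Set X) →
      False := fun A B hA h1 hB h2 hn => by
    obtain ⟨i, hi, e, e1⟩ := fix 13 A (by norm_num) hA h1
    have h3 := CL.Grp.card_modEq_card_inf_centralizer (K := V ⊓ centralizer (A : Set X)) hB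
      (CL.Grp.le_normalizer_inf' le_normalizer_of_normal (CL.Grp.le_normalizer_centralizer' hn))
    rw [inf_right_comm, f5 B hB h2, bot_inf_eq, card_bot, e] at h3
    interval_cases i <;> first | exact absurd e1 (by decide) | exact absurd h3 (by decide)
  obtain ⟨H, hH⟩ := (CL.Grp.hallD_of_solvable {5, 13} X).exists_hall
  have hex : ∀ (r : ℕ) [Fact r.Prime], r ∈ ({5, 13} : Set ℕ) → r ∣ 130 → ∃ B ≤ H, IsPGroup r B ∧ B ≠ ⊥ :=
    fun r hr h1 h2 => by
      obtain ⟨x, hx⟩ := exists_prime_orderOf_dvd_card' (G := H) r (((Nat.Prime.dvd_mul hr.out).1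
        (H.card_mul_index ▸ h2.trans h)).resolve_right (hH.2 r hr.out h1))
      have h3 := (orderOf_coe x).trans hx
      exact ⟨zpowers (x : X), zpowers_le.2 x.2, IsPGroup.of_card (n := 1) (by rw [Nat.card_zpowers, h3, pow_one]),
        fun e => hr.out.one_lt.ne' (by rw [← h3, zpowers_eq_bot.1 e, orderOf_one])⟩
  obtain ⟨A, hA, a1, a2⟩ := hex 13 (by simp) (by norm_num)
  obtain ⟨B, hB, b1, b2⟩ := hex 5 (by simp) (by norm_num)
  have : Nontrivial H := (nontrivial_iff_ne_bot H).2 fun e => a2 (le_bot_iff.1 (e ▸ hA))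
  obtain ⟨r, N, hr, hN, n1, -, n2⟩ := CL.Grp.hall_exists_abelian_normal_pgroup (G := H)
  have n3 : N.map H.subtype ≠ ⊥ := fun e => n1 ((map_eq_bot_iff_of_injective _ H.subtype_injective).1 e)
  have n4 : H ≤ normalizer (N.map H.subtype : Set X) := CL.Grp.le_normalizer_map_subtype N
  have : Fact r.Prime := ⟨hr⟩
  rcases hH.1 r hr (((n2.card_eq_or_dvd).resolve_left fun e => n1 (card_eq_one.1 e)).trans
    N.card_subgroup_dvd_card) with rfl | rfl
  · set M := N.map H.subtype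
    have m1 : IsPGroup 5 M := n2.map _
    have m2 := CL.Grp.card_dvd_card_sub_one_of_fpf (A := M) (K := V) le_normalizer_of_normal fun a ha h1 => by
      rw [← f5 (zpowers a) (m1.to_le (zpowers_le.2 ha)) (zpowers_ne_bot.2 h1), zpowers_eq_closure,
        centralizer_closure]
    obtain ⟨k, hk⟩ := m1.exists_card_eq
    have m3 := CL.Grp.card_modEq_card_inf_centralizer a1 (hA.trans n4)
    obtain ⟨i, hi, e⟩ := (Nat.dvd_prime_pow (by norm_num : Nat.Prime 5)).1
      (hk ▸ card_dvd_of_le (inf_le_left : M ⊓ centralizer (A : Set X) ≤ M))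
    rw [hk, hc] at m2
    have m4 : k < 2 := by_contra fun h2 => absurd ((pow_dvd_pow 5 (not_lt.1 h2)).trans m2) (by decide)
    rw [hk, e] at m3
    refine key A M a1 a2 m1 n3 ((inf_eq_left.1 (eq_of_le_of_card_ge inf_le_left ?_)).trans
      (centralizer_le_normalizer _))
    rw [hk, e]
    interval_cases k <;> interval_cases i <;> first | rfl | exact absurd m3 (by decide)
  · exact key _ B (n2.map _) n3 b1 b2 (hB.trans n4)

/-- The structure of a solvable group that is transitive on the subgroups of each order of `V`. -/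
theorem core [Finite X] [Group.IsSolvable X] [hp : Fact p.Prime] [V.Normal] (hV : IsElementaryAbelian p V)
    (hc : Nat.card V = p ^ n) (hn : 3 ≤ n) (hi : ¬ p ∣ V.index) (hC : centralizer (V : Set X) ≤ V) (hT : Tr V) :
    (n = 3 ∧ (∃ f : X →* semiaffineGroup (GaloisField p 3), Function.Injective f) ∧
      (p = 2 → Nonempty (X ≃* semiaffineGroup (GaloisField 2 3)) ∨ Nonempty (X ≃* affineGroup (GaloisField 2 3)))) ∨
    (n = 5 ∧ p = 2 ∧ 5 ∣ Nat.card X ∧ Nonempty (X ≃* semiaffineGroup (GaloisField 2 5))) := by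
  rcases exists_mod hV hc hn hT with ⟨e, h⟩ | ⟨rfl, rfl⟩
  swap
  · exact (not_81 hc hC (hT.dvd_of_81 hV hc)).elim
  let _ := Fintype.ofFinite (GaloisField p n)
  have hK := GaloisField.card p n (by omega)
  have hK' := Nat.card_eq_fintype_card.symm.trans hK
  obtain ⟨φ, hφ, h1⟩ := h.exists_emb (hc ▸ ((hp.out.coprime_iff_not_dvd).2 hi).pow_left n) hC
  have h2 : ∀ g, φ g ∈ semiaffineGroup (GaloisField p n) := fun g =>
    let ⟨_, a, σ, b, _, e⟩ := h1 g
    ⟨a, b, σ, e⟩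
  have h3 := card_semi_le (K := GaloisField p n)
  have h4 : n.Prime → ∀ g a σ, Sm e g a σ → σ ≠ 1 → n ∣ Nat.card X := fun hn g a σ hg h5 => by
    have h6 := orderOf_dvd_natCard σ
    rw [CL.GLn.card_ringAut hK'] at h6
    rw [← ((Nat.dvd_prime hn).1 h6).resolve_left (by rwa [orderOf_eq_one_iff])]
    exact h.orderOf_dvd hg
  have h5 : p ^ n ∣ Nat.card X := hc ▸ V.card_subgroup_dvd_card
  have h6 : p = 2 → p ^ n - 1 ∣ Nat.card X := by
    rintro rfl
    exact hc ▸ hT.sub_one_dvd hV.2 fun e => (Nat.one_lt_pow (n := n) (by omega) one_lt_two).ne (by rw [← hc, e, card_bot])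
  rw [CL.GLn.card_ringAut hK', hK] at h3
  rcases h.cases hT hK' hn with rfl | ⟨rfl, rfl, g, a, σ, h7, h8⟩
  · refine Or.inl ⟨rfl, ⟨φ.codRestrict _ h2, fun _ _ e => hφ (congrArg Subtype.val e)⟩, ?_⟩
    rintro rfl
    have h9 := Nat.Coprime.mul_dvd_of_dvd_of_dvd (by norm_num) (h6 rfl) h5
    by_cases h7 : ∃ g a σ, Sm e g a σ ∧ σ ≠ 1
    · obtain ⟨g, a, σ, h7, h8⟩ := h7
      exact Or.inl (nonempty_equiv hφ h2
        (Nat.Coprime.mul_dvd_of_dvd_of_dvd (by norm_num) h9 (h4 (by norm_num) g a σ h7 h8)) h3)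
    · refine Or.inr (nonempty_equiv hφ (fun g => ?_) h9 (hK ▸ card_affine_le))
      obtain ⟨l, a, σ, b, e1, e2⟩ := h1 g
      obtain rfl : σ = 1 := by_contra fun e3 => h7 ⟨l, a, σ, e1, e3⟩
      exact ⟨a, b, e2⟩
  · have h9 := h4 (by norm_num) g a σ h7 h8
    exact Or.inr ⟨rfl, rfl, h9, nonempty_equiv hφ h2 (Nat.Coprime.mul_dvd_of_dvd_of_dvd (by norm_num)
      (Nat.Coprime.mul_dvd_of_dvd_of_dvd (by norm_num) (h6 rfl) h5) h9) h3⟩

open CL.Odd CL.Grp in
theorem exists_norm_conj [Finite X] [Fact p.Prime] (hC : CL.Fgs.AbPConj p X) (P : Sylow p X)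
    (hP : IsMulCommutative (P : Subgroup X)) {A B : Subgroup X} (hA : A ≤ P) (hB : B ≤ P)
    (h : Nat.card A = Nat.card B) : ∃ g ∈ N[(P : Subgroup X)], cj g • A = B := by
  have h0 : ∀ {A : Subgroup X}, A ≤ P → (P : Subgroup X) ≤ C[A] := fun hA x hx y hy =>
    setLike_mul_comm (s := (P : Subgroup X)) (hA hy) hx
  obtain ⟨g, hg⟩ := hC A B (le_centralizer_iff_isMulCommutative.1 (hA.trans (h0 hA)))
    (le_centralizer_iff_isMulCommutative.1 (hB.trans (h0 hB))) (P.2.to_le hA) (P.2.to_le hB) h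
  replace hg : cj g • A = B := hg.symm
  obtain ⟨c, hc, e⟩ := (((isSylowIn_top P).conj_smul_of_mem (mem_top g)).of_le
    (by rw [← hg, ← cj_centralizer]; exact cj_mono g (h0 hA)) le_top).exists_conj_eq
      ((isSylowIn_top P).of_le (h0 hB) le_top)
  exact ⟨c * g, cj_eq_self_iff.1 (by rw [cj_mul, e]), by rw [cj_mul, hg, cj_eq_self_of_mem_cent hc]⟩

theorem local_struct [Finite X] [hp : Fact p.Prime] (hC : CL.Fgs.AbPConj p X) (P : Sylow p X) (hn : 3 ≤ n)
    (hel : IsElementaryAbelian p (P : Subgroup X)) (hc : Nat.card P = p ^ n) (N : Subgroup X)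
    (hN : N = normalizer ((P : Subgroup X) : Set X)) (hs : Group.IsSolvable (N ⧸ pPrimeCore p N)) :
    (n = 3 ∧ (∃ f : N ⧸ pPrimeCore p N →* semiaffineGroup (GaloisField p 3), Function.Injective f) ∧
      (p = 2 → Nonempty (N ⧸ pPrimeCore p N ≃* semiaffineGroup (GaloisField 2 3)) ∨
        Nonempty (N ⧸ pPrimeCore p N ≃* affineGroup (GaloisField 2 3)))) ∨
    (n = 5 ∧ p = 2 ∧ 5 ∣ Nat.card (N ⧸ pPrimeCore p N) ∧
      Nonempty (N ⧸ pPrimeCore p N ≃* semiaffineGroup (GaloisField 2 5))) := by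
  subst hN
  set N := normalizer ((P : Subgroup X) : Set X)
  have hπ := QuotientGroup.mk'_surjective (pPrimeCore p N)
  let f := (QuotientGroup.mk' (pPrimeCore p N)).comp (inclusion (le_normalizer : (P : Subgroup X) ≤ N))
  have hf : Function.Injective f := (injective_iff_map_eq_one _).2 fun x hx => Subtype.ext
    (CL.Grp.eq_one_of_coprime_of_mem P.2 x.2 (((CL.Grp.pPrimeCore_coprime p N).coprime_dvd_left
      (orderOf_dvd_natCard _ ((QuotientGroup.eq_one_iff _).1 hx))).coprime_dvd_left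
        (dvd_of_eq (orderOf_coe (inclusion (le_normalizer : (P : Subgroup X) ≤ N) x)))))
  let Q := (P.subtype le_normalizer).mapSurjective hπ
  have hQ : (Q : Subgroup (N ⧸ pPrimeCore p N)) = f.range := by
    rw [MonoidHom.range_comp, inclusion_range]
    rfl
  have hQn : f.range.Normal := hQ ▸ (normal_in_normalizer (H := (P : Subgroup X))).map _ hπ
  have := hel.1
  refine core (V := f.range) ⟨inferInstance, ?_⟩ ((Nat.card_congr (MonoidHom.ofInjective hf).toEquiv).symm.trans hc)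
    hn (hQ ▸ Q.not_dvd_index) ?_ fun A B hA hB h => ?_
  · rintro _ ⟨x, rfl⟩
    rw [← map_pow, show x ^ p = 1 from Subtype.ext (hel.2 x x.2), map_one]
  · rw [show f.range = pCore p _ from le_antisymm (CL.Grp.le_pCore (hQ ▸ Q.2)) (hQ ▸ CL.Grp.pCore_le_sylow Q)]
    exact CL.Loc.centralizer_pCore_le_of_isPSolvable (CL.Loc.isPSolvable_of_isSolvable hs)
      (CL.Grp.pPrimeCore_quotient_pPrimeCore p N)
  have h1 : ∀ A ≤ f.range, Nat.card ((A.comap f).map (P : Subgroup X).subtype) = Nat.card A := fun A hA => by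
    rw [card_map_of_injective (subtype_injective _), ← card_map_of_injective hf, map_comap_eq_self hA]
  obtain ⟨g, hg, e⟩ := exists_norm_conj hC P hel.1 (map_subtype_le (A.comap f)) (map_subtype_le (B.comap f))
    (by rw [h1 A hA, h1 B hB, h])
  refine ⟨QuotientGroup.mk' _ ⟨g, hg⟩, eq_of_le_of_card_ge ?_ (by rw [CL.Grp.hall_card_conj, h])⟩
  rintro _ ⟨a, ha, rfl⟩
  obtain ⟨x, rfl⟩ := hA ha
  obtain ⟨y, hy, e1⟩ := e.le (CL.Odd.conj_mem_cj.2 (mem_map_of_mem _ (show x ∈ A.comap f from ha)))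
  have e2 : inclusion (le_normalizer : (P : Subgroup X) ≤ N) y = ⟨g, hg⟩ * inclusion le_normalizer x * ⟨g, hg⟩⁻¹ :=
    Subtype.ext e1
  exact (congrArg (QuotientGroup.mk' (pPrimeCore p N)) e2 :) ▸ (show f y ∈ B from hy)

end CL.EqOrd
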