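/-
`PGU₃(q)`, `q` even, part 2: the abstract structure `PG`, its uniqueness, the centraliser of a central unipotent
element, and the concrete group.
-/
import Cfsg.Agent.C2Low.PGU3a
import Cfsg.Agent.C2Low.BenderSyl

set_option autoImplicit false

open CL.C2Low

namespace CL.Chev.U3

variable {F : Type*} [Field F]

/-- `Y` is an extension of `PSU₃(q)` by the diagonal automorphisms. -/
structure PG (Y : Type*) [Group Y] (S : UF F) where
  π : S.SU →* Y
  ker : ∀ g, π g = 1 ↔ g ∈ Subgroup.center S.SU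
  E : ∀ l : F, l * S.σ l = 1 → Y
  E_T : ∀ l hl u, E l hl * π (S.T u) * (E l hl)⁻¹ = π (S.T (UF.Q.rot l hl u))
  E_w : ∀ l hl, E l hl * π S.w * (E l hl)⁻¹ = π S.w
  gen : ∀ y, ∃ g l hl, y = π g * E l hl
  cent : ∀ y, (∀ g, y * π g * y⁻¹ = π g) → y = 1

theorem UF.induction (S : UF F) {P : S.SU → Prop} (hT : ∀ u, P (S.T u)) (hw : P S.w)
    (hmul : ∀ g h, P g → P h → P (g * h)) (hinv : ∀ g, P g → P g⁻¹) (g : S.SU) : P g := by
  have hg : g ∈ Subgroup.closure (Set.range S.model.T ∪ {S.model.w}) := by rw [S.model.closure_eq_top]; trivial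
  induction hg using Subgroup.closure_induction with
  | mem x hx =>
    rcases hx with ⟨u, rfl⟩ | rfl
    · exact hT u
    · exact hw
  | one => simpa using hT 1
  | mul x y _ _ hx hy => exact hmul x y hx hy
  | inv x _ hx => exact hinv x hx

theorem UF.eq_TD_of_conj (S : UF F) {g : S.SU} {u : S.Q} (hu : u ≠ 1) (h : (g * S.T u * g⁻¹) • S.inf = S.inf) :
    ∃ v c, g = S.T v * S.D c := by
  rw [mul_smul, mul_smul, smul_eq_iff_eq_inv_smul] at h
  rcases S.pt_cases (g⁻¹ • S.inf) with e | ⟨v, e⟩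
  · exact S.model.eq_TD_of_fix ((S.model.π_smul g S.inf).trans (inv_smul_eq_iff.1 e).symm)
  · rw [e, S.T_smul_pt, S.pt_inj] at h
    exact absurd (mul_eq_right.1 h) hu

theorem T_inj_of {Y : Type*} [Group Y] {S : UF F} (π : S.SU →* Y)
    (ker : ∀ g, π g = 1 → g ∈ Subgroup.center S.SU) {u v : S.Q} (h : π (S.T u) = π (S.T v)) : u = v := by
  have h5 := S.smul_eq_of_mem_center (ker (S.T (u * v⁻¹)) (by simp [h])) (S.pt v)
  rwa [S.T_smul_pt, S.pt_inj, inv_mul_cancel_right] at h5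

/-- An element `π g` centralising the central unipotent element. -/
theorem cent_z [CharP F 2] {Y : Type*} [Group Y] {S : UF F} (π : S.SU →* Y)
    (ker : ∀ g, π g = 1 → g ∈ Subgroup.center S.SU) {g : S.SU}
    (h : π g * π (S.T (Model.z1 S)) * (π g)⁻¹ = π (S.T (Model.z1 S))) :
    ∃ u, ∃ c : Fˣ, c * S.σ c = 1 ∧ g = S.T u * S.D c := by
  have h2 := S.smul_eq_of_mem_center (ker (g * S.T (Model.z1 S) * g⁻¹ * (S.T (Model.z1 S))⁻¹) (by simp [h])) S.inf
  rw [mul_smul, ← map_inv, S.T_smul_inf] at h2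
  obtain ⟨u, c, rfl⟩ := S.eq_TD_of_conj (Model.z1_ne S) h2
  refine ⟨u, c, ?_, rfl⟩
  rw [← map_inv, ← map_mul, ← map_mul, mul_assoc (S.T u), S.D_mul_T, mul_inv_rev, ← mul_assoc, ← mul_assoc,
    mul_inv_cancel_right, ← map_inv, ← map_mul, ← map_mul] at h
  have h6 := congrArg UF.Q.b (T_inj_of π ker h)
  rw [UF.Q.conj_b, UF.Q.smul_a, UF.Q.smul_b] at h6
  simpa [Model.z1, UF.Q.z_a, UF.Q.z_b] using h6

theorem smul_eq_rot {S : UF F} {c : Fˣ} (hc : c * S.σ c = 1) : ∃ hl : (S.σ c ^ 3) * S.σ (S.σ c ^ 3) = 1,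
    ∀ u : S.Q, c • u = UF.Q.rot _ hl u := by
  refine ⟨by rw [map_pow, UF.σσ, ← mul_pow, mul_comm, hc, one_pow], fun u => UF.Q.ext ?_ (by simp [hc])⟩
  rw [UF.Q.smul_a, UF.Q.rot_a, div_eq_mul_inv, inv_eq_of_mul_eq_one_right hc]
  ring

theorem w_D_of_norm {S : UF F} {c : Fˣ} (hc : c * S.σ c = 1) : S.D c * S.w * (S.D c)⁻¹ = S.w := by
  have : (Units.map S.σ c)⁻¹ = c := by
    rw [inv_eq_iff_mul_eq_one]
    exact Units.ext ((mul_comm _ _).trans hc)
  rw [mul_inv_eq_iff_eq_mul, S.w_mul_D, this]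

namespace PG

variable {Y Y' : Type*} [Group Y] [Group Y'] {S : UF F} (P : PG Y S) (P' : PG Y' S)

/-- `y` and `y'` induce the same automorphism. -/
def R (y : Y) (y' : Y') : Prop := ∀ g, ∃ g', y * P.π g * y⁻¹ = P.π g' ∧ y' * P'.π g * y'⁻¹ = P'.π g'

variable {P P'}

theorem R.symm {y : Y} {y' : Y'} (h : R P P' y y') : R P' P y' y := fun g => (h g).imp fun _ => And.symm

theorem R.mul {a b : Y} {a' b' : Y'} (h : R P P' a a') (h' : R P P' b b') : R P P' (a * b) (a' * b') := fun g => by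
  obtain ⟨g1, e1, e1'⟩ := h' g
  obtain ⟨g2, e2, e2'⟩ := h g1
  exact ⟨g2, by rw [← e2, ← e1]; group, by rw [← e2', ← e1']; group⟩

theorem R.unique {y : Y} {a b : Y'} (h : R P P' y a) (h' : R P P' y b) : a = b := by
  refine (inv_mul_eq_one.1 (P'.cent (b⁻¹ * a) fun g => ?_)).symm
  obtain ⟨g1, e1, e1'⟩ := h g
  obtain ⟨g2, e2, e2'⟩ := h' g
  have e : P'.π (g1 * g2⁻¹) = 1 := (P'.ker _).2 ((P.ker _).1 (by rw [map_mul, map_inv, ← e1, e2, mul_inv_cancel]))
  rw [map_mul, map_inv, mul_inv_eq_one, ← e1', ← e2'] at e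
  calc _ = b⁻¹ * (a * P'.π g * a⁻¹) * b := by group
    _ = _ := by rw [e]; group

theorem R_of {y : Y} {y' : Y'} (hT : ∀ u, ∃ g', y * P.π (S.T u) * y⁻¹ = P.π g' ∧ y' * P'.π (S.T u) * y'⁻¹ = P'.π g')
    (hw : ∃ g', y * P.π S.w * y⁻¹ = P.π g' ∧ y' * P'.π S.w * y'⁻¹ = P'.π g') : R P P' y y' := by
  refine S.induction hT hw ?_ ?_
  · rintro g k ⟨g', e1, e1'⟩ ⟨k', e2, e2'⟩
    exact ⟨g' * k', by rw [map_mul, map_mul, ← e1, ← e2]; group, by rw [map_mul, map_mul, ← e1', ← e2']; group⟩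
  · rintro g ⟨g', e1, e1'⟩
    exact ⟨g'⁻¹, by rw [map_inv, map_inv, ← e1]; group, by rw [map_inv, map_inv, ← e1']; group⟩

variable (P P')

theorem exists_R (y : Y) : ∃ y', R P P' y y' := by
  obtain ⟨g, l, hl, rfl⟩ := P.gen y
  exact ⟨P'.π g * P'.E l hl, R.mul (fun k => ⟨g * k * g⁻¹, by simp, by simp⟩)
    (R_of (fun u => ⟨_, P.E_T l hl u, P'.E_T l hl u⟩) ⟨_, P.E_w l hl, P'.E_w l hl⟩)⟩

include P P' in
theorem nonempty_equiv : Nonempty (Y ≃* Y') := by
  choose f hf using exists_R P P'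
  choose g hg using exists_R P' P
  exact ⟨⟨⟨f, g, fun y => (hg _).unique (hf y).symm, fun y => (hf _).unique (hg y).symm⟩,
    fun a b => (hf _).unique ((hf a).mul (hf b))⟩⟩

theorem R_refl (y : Y) : R P P y y := by
  obtain ⟨y', h⟩ := exists_R P P y
  exact fun g => (h g).imp fun _ h => ⟨h.1, h.1⟩

theorem eq_of_conj {a b : Y} (hT : ∀ u, a * P.π (S.T u) * a⁻¹ = b * P.π (S.T u) * b⁻¹)
    (hw : a * P.π S.w * a⁻¹ = b * P.π S.w * b⁻¹) : a = b :=
  (P.R_refl a).unique (R_of (fun u => (P.R_refl a (S.T u)).imp fun _ h => ⟨h.1, hT u ▸ h.1⟩)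
    ((P.R_refl a S.w).imp fun _ h => ⟨h.1, hw ▸ h.1⟩))

theorem E_mul {l m : F} (hl : l * S.σ l = 1) (hm : m * S.σ m = 1) :
    P.E l hl * P.E m hm = P.E (l * m) (UF.norm_mul hl hm) := by
  refine P.eq_of_conj (fun u => ?_) ?_
  · rw [P.E_T, ← UF.Q.rot_rot hl hm, ← P.E_T, ← P.E_T]; group
  · rw [P.E_w]
    conv_rhs => rw [← P.E_w l hl, ← P.E_w m hm]
    group

theorem E_one (h : (1 : F) * S.σ 1 = 1) : P.E 1 h = 1 :=
  P.eq_of_conj (fun u => by rw [P.E_T, UF.Q.rot_one]; group) (by rw [P.E_w]; group)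

theorem D_eq_E {c : Fˣ} (hc : c * S.σ c = 1) : ∃ l hl, P.π (S.D c) = P.E l hl := by
  obtain ⟨hl, h⟩ := smul_eq_rot hc
  refine ⟨_, hl, P.eq_of_conj (fun u => ?_) ?_⟩
  · rw [P.E_T, ← h, ← map_inv, ← map_mul, ← map_mul, S.D_mul_T, mul_inv_cancel_right]
  · rw [P.E_w, ← map_inv, ← map_mul, ← map_mul, w_D_of_norm hc]

/-- The unipotent elements. -/
def τ : S.Q →* Y := P.π.comp S.T

theorem τ_inj : Function.Injective P.τ := fun _ _ h => T_inj_of P.π (fun g => (P.ker g).1) h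

theorem E_τ {l : F} (hl : l * S.σ l = 1) (u : S.Q) : P.E l hl * P.τ u = P.τ (UF.Q.rot l hl u) * P.E l hl :=
  mul_inv_eq_iff_eq_mul.1 (P.E_T l hl u)

theorem eq_one_of_comm {u : S.Q} {l : F} {hl : l * S.σ l = 1}
    (h : ∀ v, ∃ z : S.Q, z.a = 0 ∧ P.τ u * P.E l hl * P.τ v = P.τ (z * v) * (P.τ u * P.E l hl)) : l = 1 := by
  obtain ⟨v, hv⟩ := S.exists_Q 1
  obtain ⟨z, hz, e⟩ := h v
  rw [mul_assoc, P.E_τ, ← mul_assoc, ← mul_assoc, mul_left_inj, ← map_mul, ← map_mul] at e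
  have := congrArg UF.Q.a (P.τ_inj e)
  simp only [UF.Q.mul_a, UF.Q.rot_a, hv, hz] at this
  linear_combination this

theorem τE_inj {u v : S.Q} {l m : F} {hl : l * S.σ l = 1} {hm : m * S.σ m = 1}
    (h : P.τ u * P.E l hl = P.τ v * P.E m hm) : u = v ∧ l = m := by
  obtain ⟨x, hx⟩ := S.exists_Q 1
  have e : P.τ (u * UF.Q.rot l hl x * u⁻¹) = P.τ (v * UF.Q.rot m hm x * v⁻¹) := by
    have k : ∀ (u : S.Q) l (hl : l * S.σ l = 1), P.τ (u * UF.Q.rot l hl x * u⁻¹) =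
        P.τ u * P.E l hl * P.τ x * (P.τ u * P.E l hl)⁻¹ := fun u l hl => by
      rw [mul_assoc (P.τ u), P.E_τ, map_mul, map_mul, map_inv]; group
    rw [k, k, h]
  have e2 := congrArg UF.Q.a (P.τ_inj e)
  rw [UF.Q.conj_a, UF.Q.conj_a, UF.Q.rot_a, UF.Q.rot_a, hx, mul_one, mul_one] at e2
  subst e2
  exact ⟨P.τ_inj (mul_right_cancel h), rfl⟩

theorem mem_cent [CharP F 2] {y : Y} : y ∈ Subgroup.centralizer {P.τ (Model.z1 S)} ↔
    ∃ u l hl, y = P.τ u * P.E l hl := by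
  have hz : ∀ l hl, P.E l hl * P.τ (Model.z1 S) = P.τ (Model.z1 S) * P.E l hl := fun l hl => by
    rw [P.E_τ, UF.Q.rot_of_a l hl rfl]
  rw [Subgroup.mem_centralizer_singleton_iff]
  constructor
  · intro h
    obtain ⟨g, l, hl, rfl⟩ := P.gen y
    rw [mul_assoc, hz, ← mul_assoc, ← mul_assoc, mul_left_inj, ← mul_inv_eq_iff_eq_mul] at h
    obtain ⟨u, c, hc, rfl⟩ := cent_z P.π (fun g => (P.ker g).1) h
    obtain ⟨m, hm, e⟩ := P.D_eq_E hc
    exact ⟨u, _, _, by rw [map_mul, e, mul_assoc, P.E_mul]; rfl⟩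
  · rintro ⟨u, l, hl, rfl⟩
    rw [mul_assoc, hz, ← mul_assoc, ← mul_assoc, ← map_mul, ← map_mul,
      Subgroup.mem_center_iff.1 (UF.Q.mem_center.2 (rfl : (Model.z1 S).a = 0)) u]

end PG

/-- The properties of the centraliser of an involution of `PGU₃(q)` that are used. -/
structure CP {C : Type*} [Group C] (U : Subgroup C) (q : ℕ) : Prop where
  normal : U.Normal
  syl : U3Syl U q
  index : U.index = q + 1
  cent : ∀ t : C, t * t = 1 → ∀ c, c * t = t * c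
  self : ∀ c : C, (∀ u ∈ U, c * u = u * c) → c ∈ U

theorem CP.map {C C' : Type*} [Group C] [Group C'] {U : Subgroup C} {q : ℕ} (h : CP U q) (e : C ≃* C') :
    CP (U.map e.toMonoidHom) q := by
  refine ⟨h.normal.map _ e.surjective, h.syl.of_equiv (e.subgroupMap U), ?_, fun t ht c => ?_, fun c hc => ?_⟩
  · rw [← h.index]; exact U.index_map_equiv e
  · obtain ⟨t, rfl⟩ := e.surjective t
    obtain ⟨c, rfl⟩ := e.surjective c
    rw [← map_mul, ← map_mul, h.cent t (e.injective (by rw [map_mul, ht, map_one])) c]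
  · obtain ⟨c, rfl⟩ := e.surjective c
    exact ⟨c, h.self c fun u hu => e.injective (by simpa using hc _ ⟨u, hu, rfl⟩), rfl⟩

theorem PG.orderOf_z {Y : Type*} [Group Y] {S : UF F} [CharP F 2] (P : PG Y S) : orderOf (P.τ (Model.z1 S)) = 2 :=
  CL.Inv.SE.inv_of_mul_self (by rw [← map_mul, UF.Q.mul_self_eq_one.2 rfl, map_one])
    fun e => Model.z1_ne S (P.τ_inj (e.trans (map_one _).symm))

theorem PG.cp {Y : Type*} [Group Y] {S : UF F} [CharP F 2] (P : PG Y S) :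
    CP (P.τ.range.subgroupOf (Subgroup.centralizer {P.τ (Model.z1 S)})) S.q := by
  have h1 : (1 : F) * S.σ 1 = 1 := by simp
  have hle : P.τ.range ≤ Subgroup.centralizer {P.τ (Model.z1 S)} := by
    rintro _ ⟨u, rfl⟩
    exact P.mem_cent.2 ⟨u, 1, h1, by rw [P.E_one, mul_one]⟩
  have hsyl : U3Syl (P.τ.range.subgroupOf (Subgroup.centralizer {P.τ (Model.z1 S)})) S.q :=
    (u3Syl_Q S).of_equiv (Subgroup.topEquiv.trans ((MonoidHom.ofInjective P.τ_inj).trans
      (Subgroup.subgroupOfEquivOfLe hle).symm))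
  have hmem : ∀ {u l hl}, l = 1 → P.τ u * P.E l hl ∈ P.τ.range := by
    rintro u l hl rfl
    rw [P.E_one, mul_one]
    exact ⟨u, rfl⟩
  refine ⟨⟨fun x hx c => ?_⟩, hsyl, ?_, fun t ht c => ?_, fun c hc => ?_⟩
  · obtain ⟨v, hv⟩ := hx
    obtain ⟨u, l, hl, e⟩ := P.mem_cent.1 c.2
    refine ⟨u * UF.Q.rot l hl v * u⁻¹, ?_⟩
    change _ = (c : Y) * x * (c : Y)⁻¹
    change _ = (x : Y) at hv
    rw [← hv, e, mul_assoc (P.τ u), P.E_τ, map_mul, map_mul, map_inv]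
    group
  · have hc : Nat.card (Subgroup.centralizer {P.τ (Model.z1 S)}) = S.q ^ 3 * (S.q + 1) := by
      rw [← S.card_Q, ← S.bar.card_norm_one, ← Nat.card_prod]
      refine (Nat.card_eq_of_bijective (fun p : S.Q × {x : F // x * S.σ x = 1} =>
        (⟨P.τ p.1 * P.E p.2 p.2.2, P.mem_cent.2 ⟨_, _, _, rfl⟩⟩ : Subgroup.centralizer {P.τ (Model.z1 S)}))
        ⟨fun p r e => ?_, fun c => ?_⟩).symm
      · obtain ⟨e1, e2⟩ := P.τE_inj (congrArg Subtype.val e)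
        exact Prod.ext e1 (Subtype.ext e2)
      · obtain ⟨u, l, hl, e⟩ := P.mem_cent.1 c.2
        exact ⟨(u, ⟨l, hl⟩), Subtype.ext e.symm⟩
    have := (P.τ.range.subgroupOf (Subgroup.centralizer {P.τ (Model.z1 S)})).card_mul_index
    rw [hsyl.card, hc] at this
    exact Nat.eq_of_mul_eq_mul_left (pow_pos (by have := S.two_le_q; omega) 3) this
  · obtain ⟨u, l, hl, e⟩ := P.mem_cent.1 t.2
    obtain ⟨v, m, hm, e'⟩ := P.mem_cent.1 c.2
    have h2 : (t : Y) * t = 1 := congrArg Subtype.val ht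
    rw [e, mul_assoc, ← mul_assoc (P.E l hl), P.E_τ, mul_assoc, P.E_mul, ← mul_assoc, ← map_mul,
      show (1 : Y) = P.τ 1 * P.E 1 h1 by rw [P.E_one, map_one, mul_one]] at h2
    obtain ⟨e1, e2⟩ := P.τE_inj h2
    have e3 : l = 1 := by
      have : (l - 1) ^ 2 = 0 := by linear_combination e2 + (1 - l) * (CharTwo.two_eq_zero : (2 : F) = 0)
      exact sub_eq_zero.1 (pow_eq_zero_iff two_ne_zero |>.1 this)
    subst e3
    rw [UF.Q.rot_one, UF.Q.mul_self_eq_one] at e1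
    refine Subtype.ext ?_
    change (c : Y) * t = t * c
    rw [e, e', P.E_one, mul_one, mul_assoc, P.E_τ, UF.Q.rot_of_a m hm e1, ← mul_assoc, ← mul_assoc, ← map_mul,
      ← map_mul, Subgroup.mem_center_iff.1 (UF.Q.mem_center.2 e1) v]
  · obtain ⟨u, l, hl, e⟩ := P.mem_cent.1 c.2
    change (c : Y) ∈ P.τ.range
    rw [e]
    refine hmem (P.eq_one_of_comm (u := u) (hl := hl) fun v => ⟨1, rfl, ?_⟩)
    rw [one_mul, ← e]
    exact congrArg Subtype.val (hc ⟨P.τ v, hle ⟨v, rfl⟩⟩ ⟨v, rfl⟩)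

namespace UF

open Matrix

variable (S : UF F)

/-- The full unitary group of the form with antidiagonal Gram matrix. -/
def GUJ : Subgroup (GL (Fin 3) F) := Cfsg.preserving (Units.coeHom (Matrix (Fin 3) (Fin 3) F)) fun u v => S.form u v

theorem mem_GUJ {A : GL (Fin 3) F} : A ∈ S.GUJ ↔ (A.1.map S.σ)ᵀ * Jm F * A.1 = Jm F := S.forall_form_iff

/-- `GUJ` as a group of linear maps. -/
noncomputable def gujEquiv : S.GUJ ≃* CL.Uni.UG S.form :=
  CL.Uni.restrictEquiv (CL.Uni.glEquiv (Fin 3) F) fun _ => Iff.rfl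

theorem nonempty_equiv_GU : Nonempty (S.GUJ ≃* Cfsg.GU 3 F S.q) := by
  obtain ⟨e⟩ := S.isHerm_form.nonempty_guEquiv (n := 3) (by simp)
  exact ⟨S.gujEquiv.trans e⟩

theorem mem_center_GUJ {A : S.GUJ} (a : F) (h : A.1.1 = a • (1 : Matrix (Fin 3) (Fin 3) F)) :
    A ∈ Subgroup.center S.GUJ :=
  Subgroup.mem_center_iff.2 fun B => Subtype.ext (Units.ext (by simp [h]))

/-- `SU ≤ GU`. -/
def ι : S.SU →* S.GUJ := (SpecialLinearGroup.toGL.comp S.SU.subtype).codRestrict _ fun g => g.2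

theorem coe_ι (g : S.SU) : (S.ι g).1.1 = S.mat g := rfl

/-- The matrices `diag(1, l, 1)`. -/
def Em (l : F) (hl : l * S.σ l = 1) : S.GUJ :=
  ⟨⟨!![1, 0, 0; 0, l, 0; 0, 0, 1], !![1, 0, 0; 0, S.σ l, 0; 0, 0, 1],
    by ext i j; fin_cases i <;> fin_cases j <;> simp [Matrix.mul_apply, Fin.sum_univ_three, hl],
    by ext i j; fin_cases i <;> fin_cases j <;> simp [Matrix.mul_apply, Fin.sum_univ_three, mul_comm _ l, hl]⟩,
   S.mem_GUJ.2 (by
    ext i j; fin_cases i <;> fin_cases j <;> simp [Jm, Matrix.mul_apply, Fin.sum_univ_three, mul_comm _ l, hl])⟩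

theorem coe_Em (l : F) (hl : l * S.σ l = 1) : (S.Em l hl).1.1 = !![1, 0, 0; 0, l, 0; 0, 0, 1] := rfl

theorem Em_T (l : F) (hl : l * S.σ l = 1) (u : S.Q) :
    S.Em l hl * S.ι (S.T u) = S.ι (S.T (Q.rot l hl u)) * S.Em l hl := by
  refine Subtype.ext (Units.ext ?_)
  simp only [Subgroup.coe_mul, Units.val_mul, coe_ι, coe_Em, mat_T]
  ext i j
  fin_cases i <;> fin_cases j <;> simp [Tm, Matrix.mul_apply, Fin.sum_univ_three]
  linear_combination (-S.σ u.a) * hl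

theorem Em_w (l : F) (hl : l * S.σ l = 1) : S.Em l hl * S.ι S.w = S.ι S.w * S.Em l hl := by
  refine Subtype.ext (Units.ext ?_)
  simp only [Subgroup.coe_mul, Units.val_mul, coe_ι, coe_Em, mat_w]
  ext i j
  fin_cases i <;> fin_cases j <;> simp [Wm, Matrix.mul_apply, Fin.sum_univ_three]

theorem exists_ι_Em (A : S.GUJ) : ∃ g l hl, A = S.ι g * S.Em l hl := by
  have hl : A.1.1.det * S.σ A.1.1.det = 1 := by
    have := S.isHerm_form.dt_norm (S.gujEquiv A).2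
    rwa [show CL.Uni.dt (S.gujEquiv A).1 = A.1.1.det from CL.Uni.dt_glEquiv A.1] at this
  let B := A * (S.Em _ hl)⁻¹
  have hB : A = B * S.Em _ hl := by simp [B]
  have hd : B.1.1.det = 1 := by
    have h1 := congrArg (fun X : S.GUJ => X.1.1.det) hB
    simp only [Subgroup.coe_mul, Units.val_mul, det_mul, coe_Em] at h1
    have h0 : A.1.1.det ≠ 0 := by rintro h; simp [h] at hl
    rw [show (!![1, 0, 0; 0, A.1.1.det, 0; 0, 0, 1] : Matrix (Fin 3) (Fin 3) F).det = A.1.1.det by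
      simp [Matrix.det_fin_three]] at h1
    exact mul_right_cancel₀ h0 (by rw [← h1, one_mul])
  exact ⟨⟨⟨B.1.1, hd⟩, B.2⟩, _, hl, hB.trans (congrArg (· * _) (Subtype.ext (Units.ext rfl)))⟩

theorem ι_mem_center {g : S.SU} : S.ι g ∈ Subgroup.center S.GUJ ↔ g ∈ Subgroup.center S.SU := by
  constructor
  · exact fun h => Subgroup.mem_center_iff.2 fun k => S.mat_inj (by
      have := congrArg (fun X : S.GUJ => X.1.1) (Subgroup.mem_center_iff.1 h (S.ι k))
      simpa [coe_ι] using this)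
  · rw [S.center_SU]
    rintro ⟨c, hc, rfl⟩
    exact S.mem_center_GUJ c (S.mat_D_of_mem_Z0 hc)

/-- The concrete group `PGU₃(q)`. -/
noncomputable def pg [CharP F 2] : PG (S.GUJ ⧸ Subgroup.center S.GUJ) S where
  π := (QuotientGroup.mk' _).comp S.ι
  ker g := (QuotientGroup.eq_one_iff _).trans S.ι_mem_center
  E l hl := QuotientGroup.mk' _ (S.Em l hl)
  E_T l hl u := by
    rw [mul_inv_eq_iff_eq_mul]
    exact congrArg (QuotientGroup.mk' _) (S.Em_T l hl u)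
  E_w l hl := by
    rw [mul_inv_eq_iff_eq_mul]
    exact congrArg (QuotientGroup.mk' _) (S.Em_w l hl)
  gen y := by
    obtain ⟨A, rfl⟩ := QuotientGroup.mk'_surjective _ y
    obtain ⟨g, l, hl, rfl⟩ := S.exists_ι_Em A
    exact ⟨g, l, hl, rfl⟩
  cent y h := by
    obtain ⟨A, rfl⟩ := QuotientGroup.mk'_surjective _ y
    obtain ⟨g, l, hl, rfl⟩ := S.exists_ι_Em A
    set π := (QuotientGroup.mk' (Subgroup.center S.GUJ)).comp S.ι with hπ
    set e := QuotientGroup.mk' (Subgroup.center S.GUJ) (S.Em l hl) with he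
    have ker : ∀ g, π g = 1 → g ∈ Subgroup.center S.SU := fun g =>
      ((QuotientGroup.eq_one_iff _).trans S.ι_mem_center).1
    have hT : ∀ u, e * π (S.T u) = π (S.T (Q.rot l hl u)) * e := fun u =>
      congrArg (QuotientGroup.mk' _) (S.Em_T l hl u)
    have hw : e * π S.w = π S.w * e := congrArg (QuotientGroup.mk' _) (S.Em_w l hl)
    change ∀ k, π g * e * π k * (π g * e)⁻¹ = π k at h
    have h1 : ∀ u, π g * π (S.T (Q.rot l hl u)) * (π g)⁻¹ = π (S.T u) := fun u => by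
      rw [← h (S.T u), mul_assoc (π g) e, hT]; group
    have h2 : π g * π S.w * (π g)⁻¹ = π S.w := by
      conv_rhs => rw [← h S.w, mul_assoc (π g) e, hw]
      group
    obtain ⟨u, c, hc, rfl⟩ := cent_z π ker (by simpa only [Q.rot_of_a l hl (rfl : (Model.z1 S).a = 0)] using h1 (Model.z1 S))
    have hu : u = 1 := by
      have h3 := ker (S.T u * S.w * (S.T u)⁻¹ * S.w⁻¹) (by
        have e : S.T u * S.w * (S.T u)⁻¹ = S.T u * S.D c * S.w * (S.T u * S.D c)⁻¹ := by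
          conv_lhs => rw [← w_D_of_norm hc]
          group
        rw [map_mul, map_inv, mul_inv_eq_one, e, map_mul, map_mul, map_inv, h2])
      have h4 := S.smul_eq_of_mem_center h3 (S.pt 1)
      rw [inv_eq_of_mul_eq_one_right S.w_mul_w, ← map_inv, mul_smul, mul_smul, mul_smul, S.w_smul_one, S.T_smul_inf,
        S.w_smul_inf, S.T_smul_pt, S.pt_inj, mul_one] at h4
      exact h4
    subst hu
    obtain ⟨v, hv⟩ := S.exists_Q 1
    have h5 := h1 v
    rw [map_one, one_mul, ← map_inv, ← map_mul, ← map_mul, S.D_mul_T, mul_inv_cancel_right] at h5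
    have h6 := congrArg Q.a (T_inj_of π ker h5)
    rw [Q.smul_a, Q.rot_a, hv, mul_one] at h6
    have hc0 := c.ne_zero
    have hσ : S.σ c = (c : F)⁻¹ := eq_inv_of_mul_eq_one_right hc
    refine (QuotientGroup.eq_one_iff _).2 (S.mem_center_GUJ c ?_)
    simp only [Subgroup.coe_mul, Units.val_mul, coe_ι, coe_Em, map_one, one_mul, mat_D]
    rw [hσ] at h6
    ext i j
    fin_cases i <;> fin_cases j <;> simp [Dm, Matrix.mul_apply, Fin.sum_univ_three, hσ]
    field_simp at h6 ⊢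
    exact h6

end UF

end CL.Chev.U3
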